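import Groth.Prelude.Def_W4c6katofiltaWFil
import Groth.Agent.Lib.DispRigid.Witt
import Groth.Agent.S18590
import Mathlib

/-!
# Filtered pieces of truncated Witt vectors over a localisation
-/

universe u

namespace GrothLib.WittFiltr

section Monom

variable {B : Type u} [CommRing B] {r : ℕ} (u : Fin r → Bˣ)

theorem zmon_add (m n : Fin r → ℤ) : WittFil.zmon u (m + n) = WittFil.zmon u m * WittFil.zmon u n := by
  rw [WittFil.zmon, WittFil.zmon, WittFil.zmon, ← Units.val_mul, ← Finset.prod_mul_distrib]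
  simp only [Pi.add_apply, zpow_add]

theorem zmon_pow (n : Fin r → ℤ) (P : ℕ) : WittFil.zmon u n ^ P = WittFil.zmon u (fun i => (P : ℤ) * n i) := by
  rw [WittFil.zmon, WittFil.zmon, ← Units.val_pow_eq_pow_val, ← Finset.prod_pow]
  refine congrArg Units.val (Finset.prod_congr rfl fun i _ => ?_)
  rw [← zpow_natCast (u i ^ n i), ← zpow_mul, mul_comm]

theorem zmon_zero : WittFil.zmon u (0 : Fin r → ℤ) = 1 := by simp [WittFil.zmon]

theorem zmon_natCast {A : Type u} [CommRing A] [Algebra A B] (x : Fin r → A)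
    (hu : ∀ i, (u i : B) = algebraMap A B (x i)) (k : Fin r → ℕ) :
    WittFil.zmon u (fun i => (k i : ℤ)) = algebraMap A B (∏ i, x i ^ k i) := by
  rw [WittFil.zmon, map_prod, Units.coe_prod]
  exact Finset.prod_congr rfl fun i _ => by rw [zpow_natCast, Units.val_pow_eq_pow_val, hu, map_pow]

end Monom

section Root

variable {A B : Type u} [CommRing A] [IsDomain A] [CommRing B] [Algebra A B] {r : ℕ} (x : Fin r → A)
  (hx : ∀ i, Prime (x i)) (hxa : ∀ i j, Associated (x i) (x j) → i = j) [IsLocalization.Away (∏ i, x i) B]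
  (u : Fin r → Bˣ) (hu : ∀ i, (u i : B) = algebraMap A B (x i))

include hx in
theorem prod_ne_zero : (∏ i, x i) ≠ 0 := Finset.prod_ne_zero_iff.2 fun i _ => (hx i).ne_zero

include hx in
theorem algebraMap_injective : Function.Injective (algebraMap A B) :=
  IsLocalization.injective B (powers_le_nonZeroDivisors_of_noZeroDivisors (prod_ne_zero x hx))

include hx in
theorem isDomain : IsDomain B :=
  IsLocalization.isDomain_of_le_nonZeroDivisors B (powers_le_nonZeroDivisors_of_noZeroDivisors (prod_ne_zero x hx))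

include hx hxa hu in
theorem mem_of_pow_mul_mem (y : B) (P : ℕ) (r' : Fin r → ℕ) (hr : ∀ i, r' i < P)
    (h : y ^ P * WittFil.zmon u (fun i => (r' i : ℤ)) ∈ (algebraMap A B).range) : y ∈ (algebraMap A B).range := by
  classical
  suffices key : ∀ (N : ℕ) (k : Fin r → ℕ) (b : A), ∑ i, k i ≤ N →
      y * algebraMap A B (∏ i, x i ^ k i) = algebraMap A B b → y ∈ (algebraMap A B).range by
    obtain ⟨N, b, hb⟩ := IsLocalization.Away.surj (∏ i, x i) y
    refine key (∑ _i : Fin r, N) (fun _ => N) b le_rfl ?_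
    rw [Finset.prod_pow, map_pow]
    exact hb
  obtain ⟨a, ha⟩ := h
  intro N
  induction N with
  | zero =>
    intro k b hk hb
    have h0 : ∀ i, k i = 0 := fun i => Nat.le_zero.1 ((Finset.single_le_sum (fun j _ => Nat.zero_le (k j)) (Finset.mem_univ i)).trans hk)
    simp only [h0, pow_zero, Finset.prod_const_one, map_one, mul_one] at hb
    exact ⟨b, hb.symm⟩
  | succ N ih =>
    intro k b hk hb
    by_cases h0 : ∀ i, k i = 0
    · simp only [h0, pow_zero, Finset.prod_const_one, map_one, mul_one] at hb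
      exact ⟨b, hb.symm⟩
    obtain ⟨i, hi⟩ := not_forall.1 h0
    -- `x i ∣ b`
    have e : b ^ P * ∏ j, x j ^ r' j = a * (∏ j, x j ^ k j) ^ P := algebraMap_injective (B := B) x hx <| by
      rw [map_mul, map_mul, map_pow, map_pow, ← hb, mul_pow, ← zmon_natCast u x hu r', ha]
      ring
    have hsplit : ∀ f : Fin r → ℕ, ∏ j, x j ^ f j = x i ^ f i * ∏ j ∈ Finset.univ.erase i, x j ^ f j := fun f =>
      (Finset.mul_prod_erase _ _ (Finset.mem_univ i)).symm
    have hdvd : x i ^ r' i * x i ∣ x i ^ r' i * (b ^ P * ∏ j ∈ Finset.univ.erase i, x j ^ r' j) := by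
      have e' : x i ^ r' i * (b ^ P * ∏ j ∈ Finset.univ.erase i, x j ^ r' j) = a * (∏ j, x j ^ k j) ^ P := by
        rw [← e, hsplit r']; ring
      rw [e', ← pow_succ, hsplit k, mul_pow, ← pow_mul, ← mul_assoc]
      refine Dvd.dvd.mul_right (Dvd.dvd.mul_left (pow_dvd_pow _ ?_) a) _
      have : P ≤ k i * P := Nat.le_mul_of_pos_left P (Nat.pos_of_ne_zero hi)
      have := hr i
      omega
    have hdvd' : x i ∣ b := by
      rcases (hx i).dvd_or_dvd ((mul_dvd_mul_iff_left (pow_ne_zero _ (hx i).ne_zero)).1 hdvd) with h | h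
      · exact (hx i).dvd_of_dvd_pow h
      · obtain ⟨j, hj, hj'⟩ := (hx i).exists_mem_finset_dvd h
        exact absurd (hxa i j ((hx i).associated_of_dvd (hx j) ((hx i).dvd_of_dvd_pow hj'))) (Finset.mem_erase.1 hj).1.symm
    obtain ⟨b', rfl⟩ := hdvd'
    refine ih (Function.update k i (k i - 1)) b' ?_ ?_
    · have h1 : ∑ j, Function.update k i (k i - 1) j + 1 = ∑ j, k j := by
        rw [Finset.sum_update_of_mem (Finset.mem_univ i)]
        rw [← Finset.add_sum_erase _ k (Finset.mem_univ i), Finset.sdiff_singleton_eq_erase]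
        omega
      omega
    · haveI := isDomain (B := B) x hx
      have hp : ∏ j, x j ^ k j = x i * ∏ j, x j ^ Function.update k i (k i - 1) j := by
        rw [hsplit k, hsplit (Function.update k i (k i - 1)), Function.update_self, ← mul_assoc, ← pow_succ',
          Nat.sub_add_cancel (Nat.pos_of_ne_zero hi)]
        refine congrArg _ (Finset.prod_congr rfl fun j hj => ?_)
        rw [Function.update_of_ne (Finset.mem_erase.1 hj).1]
      have hne : algebraMap A B (x i) ≠ 0 := fun h => (hx i).ne_zero (algebraMap_injective x hx (h.trans (map_zero _).symm))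
      refine mul_left_cancel₀ hne ?_
      rw [← map_mul, ← hb, hp, map_mul]
      ring

include hx hxa hu in
/-- extraction of a `P`-th root -/
theorem pow_mul_mem_iff (y : B) (P : ℕ) (hP : 0 < P) (n : Fin r → ℤ) :
    y ^ P * WittFil.zmon u n ∈ (algebraMap A B).range ↔
      y * WittFil.zmon u (fun i => n i / (P : ℤ)) ∈ (algebraMap A B).range := by
  have hP' : (P : ℤ) ≠ 0 := by exact_mod_cast hP.ne'
  have hn : y ^ P * WittFil.zmon u n = (y * WittFil.zmon u (fun i => n i / (P : ℤ))) ^ P
      * WittFil.zmon u (fun i => ((n i % (P : ℤ)).toNat : ℤ)) := by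
    rw [mul_pow, zmon_pow, mul_assoc, ← zmon_add]
    refine congrArg (fun e => y ^ P * WittFil.zmon u e) (funext fun i => ?_)
    rw [Pi.add_apply, Int.toNat_of_nonneg (Int.emod_nonneg _ hP'), Int.mul_ediv_add_emod]
  constructor
  · intro h
    refine mem_of_pow_mul_mem x hx hxa u hu _ P (fun i => (n i % (P : ℤ)).toNat) (fun i => ?_) (hn ▸ h)
    have h1 := Int.emod_lt_of_pos (n i) (show (0 : ℤ) < P by exact_mod_cast hP)
    have h2 := Int.emod_nonneg (n i) hP'
    omega
  · intro h
    rw [hn, zmon_natCast u x hu]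
    exact Subring.mul_mem _ (Subring.pow_mem _ h P) ⟨_, rfl⟩

include hx hxa hu in
theorem rootClosed (w : B) (P : ℕ) (hP : 0 < P) (h : w ^ P ∈ (algebraMap A B).range) : w ∈ (algebraMap A B).range := by
  have h1 := (pow_mul_mem_iff x hx hxa u hu w P hP 0).1 (by rwa [zmon_zero, mul_one])
  rw [show (fun i : Fin r => (0 : Fin r → ℤ) i / (P : ℤ)) = 0 from funext fun i => Int.zero_ediv _, zmon_zero, mul_one] at h1
  exact h1

end Root

section Teich

variable {p : ℕ} [hp : Fact p.Prime] {B : Type u} [CommRing B]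

theorem coeff_mul_teich (m : ℕ) (a : TruncatedWittVector p m B) (c : B) (j : Fin m) :
    TruncatedWittVector.coeff j (a * WittVector.truncate m (WittVector.teichmuller p c))
      = TruncatedWittVector.coeff j a * c ^ p ^ (j : ℕ) := by
  obtain ⟨z, rfl⟩ := WittVector.truncate_surjective p m B a
  rw [← map_mul, WittVector.coeff_truncate, WittVector.coeff_truncate, mul_comm, Groth.Agent.S18590.teichmuller_mul_coeff,
    mul_comm]

end Teich

section Closed

variable {p : ℕ} [hp : Fact p.Prime] {A B : Type u} [CommRing A] [CommRing B] [Algebra A B] [CharP B p] [IsReduced B]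

/-- `p`-power root closure of the image of `A` in the perfect closure of `B` -/
noncomputable def rootRange (p : ℕ) [Fact p.Prime] (A B : Type u) [CommRing A] [CommRing B] [Algebra A B] [CharP B p] :
    Subring (PerfectClosure B p) where
  carrier := {w | ∃ k : ℕ, w ^ p ^ k ∈ ((PerfectClosure.of B p).comp (algebraMap A B)).range}
  one_mem' := ⟨0, by rw [one_pow]; exact Subring.one_mem _⟩
  zero_mem' := ⟨0, by rw [pow_zero, pow_one]; exact Subring.zero_mem _⟩
  mul_mem' := by
    rintro v w ⟨k, hk⟩ ⟨l, hl⟩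
    refine ⟨k + l, ?_⟩
    rw [mul_pow, pow_add]
    refine Subring.mul_mem _ ?_ ?_
    · rw [pow_mul]; exact Subring.pow_mem _ hk _
    · rw [mul_comm, pow_mul]; exact Subring.pow_mem _ hl _
  add_mem' := by
    rintro v w ⟨k, hk⟩ ⟨l, hl⟩
    refine ⟨k + l, ?_⟩
    rw [add_pow_char_pow, pow_add]
    refine Subring.add_mem _ ?_ ?_
    · rw [pow_mul]; exact Subring.pow_mem _ hk _
    · rw [mul_comm, pow_mul]; exact Subring.pow_mem _ hl _
  neg_mem' := by
    rintro v ⟨k, hk⟩
    refine ⟨k, ?_⟩
    rw [neg_pow]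
    exact Subring.mul_mem _ (Subring.pow_mem _ (Subring.neg_mem _ (Subring.one_mem _)) _) hk

theorem of_injective : Function.Injective (PerfectClosure.of B p) := fun a b h => by
  rw [PerfectClosure.of_apply, PerfectClosure.of_apply, PerfectClosure.eq_iff] at h
  simpa using h

theorem exists_root (m : ℕ) (c : B) : ∃ c' : PerfectClosure B p, c' ^ p ^ (m - 1) = PerfectClosure.of B p c :=
  ⟨(iterateFrobeniusEquiv (PerfectClosure B p) p (m - 1)).symm (PerfectClosure.of B p c),
    (congrFun (coe_iterateFrobeniusEquiv (PerfectClosure B p) p (m - 1)) _).symm.trans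
      ((iterateFrobeniusEquiv (PerfectClosure B p) p (m - 1)).apply_symm_apply _)⟩

variable (hrc : ∀ (w : B) (k : ℕ), w ^ p ^ k ∈ (algebraMap A B).range → w ∈ (algebraMap A B).range)

include hrc in
theorem mem_fil_iff {m : ℕ} (c : B) (c' : PerfectClosure B p) (hc' : c' ^ p ^ (m - 1) = PerfectClosure.of B p c)
    (Z : WittVector p B) :
    WittVector.truncate m Z ∈ WittFil.fil p m (A := A) c ↔
      ∀ j, j < m → (WittVector.map (PerfectClosure.of B p) Z * WittVector.teichmuller p c').coeff j ∈ rootRange p A B := by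
  have key : ∀ j, j < m →
      ((WittVector.map (PerfectClosure.of B p) Z * WittVector.teichmuller p c').coeff j) ^ p ^ (m - 1 - j)
        = PerfectClosure.of B p (Z.coeff j ^ p ^ (m - 1 - j) * c) := fun j hj => by
    rw [mul_comm, Groth.Agent.S18590.teichmuller_mul_coeff, WittVector.map_coeff, mul_pow, ← pow_mul, ← pow_add,
      Nat.add_sub_cancel' (by omega), hc', map_mul, map_pow, mul_comm]
  constructor
  · intro h j hj
    obtain ⟨a, ha⟩ := h ⟨j, hj⟩
    rw [WittVector.coeff_truncate] at ha
    exact ⟨m - 1 - j, a, by rw [key j hj, ← ha]; rfl⟩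
  · intro h j
    obtain ⟨k, a, ha⟩ := h j j.2
    rw [WittVector.coeff_truncate]
    refine hrc _ k ⟨a ^ p ^ (m - 1 - (j : ℕ)), of_injective (p := p) ?_⟩
    rw [RingHom.comp_apply] at ha
    have k1 := key j j.2
    set P := p ^ (m - 1 - (j : ℕ))
    rw [map_pow (algebraMap A B), map_pow (PerfectClosure.of B p), map_pow (PerfectClosure.of B p), ← k1, ha,
      ← pow_mul, ← pow_mul, mul_comm (p ^ k) P]

theorem exists_map_truncate {B' : Type u} [CommRing B'] (A' : Subring B') {m : ℕ} (Z : WittVector p B')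
    (h : ∀ j, j < m → Z.coeff j ∈ A') :
    ∃ Z₀ : WittVector p A', WittVector.truncate m (WittVector.map A'.subtype Z₀) = WittVector.truncate m Z := by
  classical
  refine ⟨WittVector.mk p fun j => if hj : j < m then ⟨Z.coeff j, h j hj⟩ else 0, TruncatedWittVector.ext fun i => ?_⟩
  rw [WittVector.coeff_truncate, WittVector.coeff_truncate, WittVector.map_coeff, WittVector.coeff_mk, dif_pos i.2]
  rfl

theorem coeff_eq_of_truncate {B' : Type u} [CommRing B'] {m : ℕ} {Z Z' : WittVector p B'}
    (h : WittVector.truncate m Z = WittVector.truncate m Z') {j : ℕ} (hj : j < m) : Z.coeff j = Z'.coeff j := by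
  have := congrArg (TruncatedWittVector.coeff ⟨j, hj⟩) h
  simpa using this

include hrc in
theorem sub_mem {m : ℕ} {c : B} {a b : TruncatedWittVector p m B} (ha : a ∈ WittFil.fil p m (A := A) c)
    (hb : b ∈ WittFil.fil p m (A := A) c) : a - b ∈ WittFil.fil p m (A := A) c := by
  obtain ⟨c', hc'⟩ := exists_root (p := p) m c
  obtain ⟨X, rfl⟩ := WittVector.truncate_surjective p m B a
  obtain ⟨Y, rfl⟩ := WittVector.truncate_surjective p m B b
  rw [← map_sub, mem_fil_iff hrc c c' hc']
  obtain ⟨X₀, hX⟩ := exists_map_truncate _ _ ((mem_fil_iff hrc c c' hc' X).1 ha)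
  obtain ⟨Y₀, hY⟩ := exists_map_truncate _ _ ((mem_fil_iff hrc c c' hc' Y).1 hb)
  intro j hj
  have h : WittVector.truncate m ((WittVector.map (PerfectClosure.of B p) (X - Y)) * WittVector.teichmuller p c')
      = WittVector.truncate m (WittVector.map (rootRange p A B).subtype (X₀ - Y₀)) := by
    rw [map_sub, sub_mul, map_sub (WittVector.truncate m), map_sub, map_sub (WittVector.truncate m), hX, hY]
  rw [coeff_eq_of_truncate h hj, WittVector.map_coeff]
  exact Subtype.prop _

include hrc in
theorem mul_mem {m : ℕ} {c d : B} {a b : TruncatedWittVector p m B} (ha : a ∈ WittFil.fil p m (A := A) c)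
    (hb : b ∈ WittFil.fil p m (A := A) d) : a * b ∈ WittFil.fil p m (A := A) (c * d) := by
  obtain ⟨c', hc'⟩ := exists_root (p := p) m c
  obtain ⟨d', hd'⟩ := exists_root (p := p) m d
  obtain ⟨X, rfl⟩ := WittVector.truncate_surjective p m B a
  obtain ⟨Y, rfl⟩ := WittVector.truncate_surjective p m B b
  rw [← map_mul, mem_fil_iff hrc (c * d) (c' * d') (by rw [mul_pow, hc', hd', map_mul])]
  obtain ⟨X₀, hX⟩ := exists_map_truncate _ _ ((mem_fil_iff hrc c c' hc' X).1 ha)
  obtain ⟨Y₀, hY⟩ := exists_map_truncate _ _ ((mem_fil_iff hrc d d' hd' Y).1 hb)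
  intro j hj
  have h : WittVector.truncate m ((WittVector.map (PerfectClosure.of B p) (X * Y)) * WittVector.teichmuller p (c' * d'))
      = WittVector.truncate m (WittVector.map (rootRange p A B).subtype (X₀ * Y₀)) := by
    rw [hX.symm.trans rfl |> fun e => (map_mul (WittVector.map (rootRange p A B).subtype) X₀ Y₀), map_mul (WittVector.truncate m)
      (WittVector.map (rootRange p A B).subtype X₀), hX, hY, ← map_mul, map_mul (WittVector.map (PerfectClosure.of B p)),
      map_mul (WittVector.teichmuller p), mul_mul_mul_comm]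
  rw [coeff_eq_of_truncate h hj, WittVector.map_coeff]
  exact Subtype.prop _

end Closed

end GrothLib.WittFiltr
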