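import Groth.Agent.Lib.WittFiltr.Basic
import Mathlib

/-!
# The graded pieces of the filtration over a power series ring
-/

universe u

namespace GrothLib.WittFiltr

variable {p : ℕ} [Fact p.Prime] {S B : Type u} [CommRing S] [IsDomain S] [CharP S p] [CommRing B]
  [Algebra (PowerSeries S) B] [Algebra S B] [IsScalarTower S (PowerSeries S) B]
  [IsLocalization.Away (PowerSeries.X : PowerSeries S) B] (u : Bˣ)
  (hu : (u : B) = algebraMap (PowerSeries S) B PowerSeries.X)

local notation "PS" => PowerSeries S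
local notation "am" => algebraMap (PowerSeries S) B

theorem charP_powerSeries : CharP (PowerSeries S) p :=
  charP_of_injective_ringHom (f := PowerSeries.C) PowerSeries.C_injective p

omit [Algebra S B] [IsScalarTower S PS B] in
include S in
theorem isDomain_laurent : IsDomain B :=
  IsLocalization.isDomain_of_le_nonZeroDivisors B (powers_le_nonZeroDivisors_of_noZeroDivisors (PowerSeries.X_ne_zero (R := S)))

theorem am_injective : Function.Injective am :=
  IsLocalization.injective B (powers_le_nonZeroDivisors_of_noZeroDivisors (PowerSeries.X_ne_zero (R := S)))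

include hu in
theorem root_iff (y : B) (P : ℕ) (hP : 0 < P) (k : ℤ) :
    y ^ P * ((u ^ k : Bˣ) : B) ∈ (am).range ↔ y * ((u ^ (k / (P : ℤ)) : Bˣ) : B) ∈ (am).range := by
  haveI hloc : IsLocalization.Away (∏ _i : Fin 1, (PowerSeries.X : PS)) B := by rw [Fin.prod_univ_one]; infer_instance
  have h := GrothLib.WittFiltr.pow_mul_mem_iff (fun _ : Fin 1 => (PowerSeries.X : PS)) (fun _ => PowerSeries.X_prime)
    (fun i j _ => Subsingleton.elim i j) (fun _ => u) (fun _ => hu) y P hP (fun _ => k)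
  simpa [WittFil.zmon] using h

theorem coeff_vShiftTeich (m s : ℕ) (v : B) (c : WittVector p S) (j : Fin m) :
    TruncatedWittVector.coeff j (WittFil.vShiftTeich p m s v c)
      = if (j : ℕ) < s then 0 else algebraMap S B (c.coeff ((j : ℕ) - s)) * v ^ p ^ ((j : ℕ) - s) := by
  rw [WittFil.vShiftTeich, WittVector.coeff_truncate]
  split_ifs with h
  · exact WittVector.iterate_verschiebung_coeff_eq_zero _ h
  · obtain ⟨k, hk⟩ : ∃ k, (j : ℕ) = k + s := ⟨(j : ℕ) - s, by omega⟩
    rw [hk, WittVector.iterate_verschiebung_coeff, Nat.add_sub_cancel, mul_comm (WittVector.map _ c),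
      Groth.Agent.S18590.teichmuller_mul_coeff, WittVector.map_coeff, mul_comm]

include hu in
theorem graded_bijective (m s : ℕ) (hs : s < m) (i : ℤ) (hsi : s = 0 ∨ ¬ ((p : ℤ) ∣ i)) :
    (∀ c : WittVector p S,
        WittFil.vShiftTeich p m s ((u ^ i : Bˣ) : B) c ∈
          WittFil.fil p m (A := PS) ((u ^ (-((p : ℤ) ^ (m - 1 - s) * i)) : Bˣ) : B)) ∧
      (∀ c : WittVector p S,
        WittFil.vShiftTeich p m s ((u ^ i : Bˣ) : B) c ∈
            WittFil.fil p m (A := PS) ((u ^ (-((p : ℤ) ^ (m - 1 - s) * i) - 1) : Bˣ) : B) ↔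
          WittVector.truncate (m - s) c = 0) ∧
      (∀ y ∈ WittFil.fil p m (A := PS) ((u ^ (-((p : ℤ) ^ (m - 1 - s) * i)) : Bˣ) : B),
        ∃ c : WittVector p S,
          y - WittFil.vShiftTeich p m s ((u ^ i : Bˣ) : B) c ∈
            WittFil.fil p m (A := PS) ((u ^ (-((p : ℤ) ^ (m - 1 - s) * i) - 1) : Bˣ) : B)) := by
  haveI := isDomain_laurent (S := S) (B := B)
  haveI : CharP PS p := charP_powerSeries
  haveI : CharP B p := charP_of_injective_algebraMap (am_injective (S := S) (B := B)) p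
  have hp : 0 < p := (Fact.out : p.Prime).pos
  have hrc : ∀ (w : B) (k : ℕ), w ^ p ^ k ∈ (am).range → w ∈ (am).range := fun w k h => by
    have h1 := (root_iff u hu w (p ^ k) (pow_pos hp _) 0).1 (by rwa [zpow_zero, Units.val_one, mul_one])
    rwa [Int.zero_ediv, zpow_zero, Units.val_one, mul_one] at h1
  set n : ℤ := -((p : ℤ) ^ (m - 1 - s) * i) with hn
  -- the values
  have hval : ∀ (z : B) (k : ℕ), k + s < m →
      (z * ((u ^ i : Bˣ) : B) ^ p ^ k) ^ p ^ (m - 1 - (k + s)) * ((u ^ n : Bˣ) : B) = z ^ p ^ (m - 1 - (k + s)) := by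
    intro z k hk
    have e : k + (m - 1 - (k + s)) = m - 1 - s := by omega
    rw [mul_pow, ← pow_mul, ← pow_add, e, mul_assoc, ← Units.val_pow_eq_pow_val, ← Units.val_mul, ← zpow_natCast (u ^ i),
      ← zpow_mul, ← zpow_add, Nat.cast_pow, hn, mul_comm i, add_neg_cancel, zpow_zero, Units.val_one, mul_one]
  have hlow : ∀ (j : ℕ), j < m → j < s → ∀ z : B, z ^ p ^ (m - 1 - j) * ((u ^ n : Bˣ) : B) ∈ (am).range →
      z ^ p ^ (m - 1 - j) * ((u ^ (n - 1) : Bˣ) : B) ∈ (am).range := by
    intro j hjm hjs z hz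
    rw [root_iff u hu _ _ (pow_pos hp _)] at hz ⊢
    have e : (n - 1) / ((p ^ (m - 1 - j) : ℕ) : ℤ) = n / ((p ^ (m - 1 - j) : ℕ) : ℤ) := by
      push_cast
      set P : ℤ := (p : ℤ) ^ (m - 1 - j) with hP
      have hPpos : 0 < P := by positivity
      have hnd : n % P ≠ 0 := fun h => by
        have hd : P ∣ n := Int.dvd_of_emod_eq_zero h
        rw [hn, dvd_neg, hP, show m - 1 - j = (m - 1 - s) + (s - j) by omega, pow_add,
          mul_dvd_mul_iff_left (pow_ne_zero _ (by exact_mod_cast hp.ne' : (p : ℤ) ≠ 0))] at hd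
        rcases hsi with hs0 | hi
        · omega
        · exact hi ((dvd_pow_self _ (by omega : s - j ≠ 0)).trans hd)
      have h1 := Int.emod_lt_of_pos n hPpos
      have h2 := Int.emod_nonneg n hPpos.ne'
      rw [show n - 1 = (n % P - 1) + n / P * P by linarith [Int.mul_ediv_add_emod n P, mul_comm P (n / P)],
        Int.add_mul_ediv_right _ _ hPpos.ne', Int.ediv_eq_zero_of_lt (by omega) (by omega), zero_add]
    rw [e]
    exact hz
  have hCam : ∀ a : S, algebraMap S B a = am (PowerSeries.C a) := fun a => by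
    rw [IsScalarTower.algebraMap_apply S PS B]; rfl
  have h1 : ∀ c : WittVector p S,
      WittFil.vShiftTeich p m s ((u ^ i : Bˣ) : B) c ∈ WittFil.fil p m (A := PS) ((u ^ n : Bˣ) : B) := fun c j => by
    rw [coeff_vShiftTeich]
    split_ifs with h
    · rw [zero_pow (pow_ne_zero _ hp.ne'), zero_mul]; exact Subring.zero_mem _
    · obtain ⟨k, hk⟩ : ∃ k, (j : ℕ) = k + s := ⟨(j : ℕ) - s, by omega⟩
      rw [hk, Nat.add_sub_cancel, hval _ _ (hk ▸ j.2)]
      exact Subring.pow_mem _ (show algebraMap S B (c.coeff k) ∈ (am).range from ⟨_, (hCam _).symm⟩) _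
  refine ⟨h1, fun c => ⟨fun h => ?_, fun h j => ?_⟩, fun y hy => ?_⟩
  · refine TruncatedWittVector.ext fun k => ?_
    rw [WittVector.coeff_truncate, TruncatedWittVector.coeff_zero]
    have hk := k.2
    obtain ⟨a, ha⟩ := h ⟨(k : ℕ) + s, by omega⟩
    rw [coeff_vShiftTeich, if_neg (by simp), Nat.add_sub_cancel, sub_eq_add_neg, zpow_add, Units.val_mul, ← mul_assoc,
      hval _ _ (by omega), hCam, ← map_pow, ← map_pow, zpow_neg_one] at ha
    have h2 : am (PowerSeries.C (c.coeff k ^ p ^ (m - 1 - ((k : ℕ) + s)))) = am (a * PowerSeries.X) := by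
      rw [map_mul, ← hu, ha, mul_assoc, ← Units.val_mul, inv_mul_cancel, Units.val_one, mul_one]
    have h3 := congrArg PowerSeries.constantCoeff (am_injective (S := S) (B := B) h2)
    rw [PowerSeries.constantCoeff_C, map_mul, PowerSeries.constantCoeff_X, mul_zero] at h3
    exact eq_zero_of_pow_eq_zero h3
  · rw [coeff_vShiftTeich]
    split_ifs with hj
    · rw [zero_pow (pow_ne_zero _ hp.ne'), zero_mul]; exact Subring.zero_mem _
    · have h2 := congrArg (TruncatedWittVector.coeff ⟨(j : ℕ) - s, by omega⟩) h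
      rw [WittVector.coeff_truncate, TruncatedWittVector.coeff_zero] at h2
      rw [h2, map_zero, zero_mul, zero_pow (pow_ne_zero _ hp.ne'), zero_mul]; exact Subring.zero_mem _
  -- surjectivity
  have hZ : ∀ k : ℕ, k + s < m → ∃ a : PS, ∀ h : k + s < m,
      TruncatedWittVector.coeff ⟨k + s, h⟩ y * (((u ^ i)⁻¹ : Bˣ) : B) ^ p ^ k = am a := fun k hk => by
    obtain ⟨a, ha⟩ := hrc (TruncatedWittVector.coeff ⟨k + s, hk⟩ y * (((u ^ i)⁻¹ : Bˣ) : B) ^ p ^ k) (m - 1 - (k + s)) (by
      rw [← hval _ k hk, mul_assoc (TruncatedWittVector.coeff ⟨k + s, hk⟩ y), ← mul_pow, ← Units.val_mul, inv_mul_cancel,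
        Units.val_one, one_pow, mul_one]
      exact hy ⟨k + s, hk⟩)
    exact ⟨a, fun _ => ha.symm⟩
  choose Z hZ using hZ
  let c : WittVector p S := WittVector.mk p fun k => if h : k + s < m then PowerSeries.constantCoeff (Z k h) else 0
  refine ⟨c, fun j => ?_⟩
  have hd := sub_mem hrc hy (h1 c)
  obtain ⟨d, hd'⟩ := hd j
  suffices hXd : (PowerSeries.X : PS) ∣ d by
    obtain ⟨d₀, rfl⟩ := hXd
    refine ⟨d₀, ?_⟩
    rw [sub_eq_add_neg n, zpow_add, Units.val_mul, ← mul_assoc, ← hd', map_mul, ← hu, zpow_neg_one, mul_comm (u : B),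
      mul_assoc, ← Units.val_mul, mul_inv_cancel, Units.val_one, mul_one]
  -- congruences modulo `X`
  obtain ⟨c', hc'⟩ := exists_root (p := p) m ((u ^ n : Bˣ) : B)
  obtain ⟨Y, rfl⟩ := WittVector.truncate_surjective p m B y
  obtain ⟨Φ, hΦ⟩ := WittVector.truncate_surjective p m B (WittFil.vShiftTeich p m s ((u ^ i : Bˣ) : B) c)
  obtain ⟨Y₀, hY⟩ := exists_map_truncate _ _ ((mem_fil_iff hrc _ c' hc' Y).1 hy)
  obtain ⟨Φ₀, hΦ₀⟩ := exists_map_truncate _ _ ((mem_fil_iff hrc _ c' hc' Φ).1 (hΦ ▸ h1 c))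
  let A' := rootRange p PS B
  let ofA : PS →+* PerfectClosure B p := (PerfectClosure.of B p).comp am
  have hofA : Function.Injective ofA := (of_injective (p := p)).comp am_injective
  let X' : A' := ⟨ofA PowerSeries.X, 0, PowerSeries.X, by rw [pow_zero, pow_one]⟩
  let J : Ideal A' := (Ideal.span {X'}).radical
  have hpw : ∀ (Z : WittVector p B) (Z₀ : WittVector p A'),
      WittVector.truncate m (WittVector.map A'.subtype Z₀)
        = WittVector.truncate m (WittVector.map (PerfectClosure.of B p) Z * WittVector.teichmuller p c') →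
      ∀ l, l < m → (Z₀.coeff l : PerfectClosure B p) ^ p ^ (m - 1 - l)
        = PerfectClosure.of B p (Z.coeff l ^ p ^ (m - 1 - l) * ((u ^ n : Bˣ) : B)) := fun Z Z₀ h l hl => by
    have h0 := coeff_eq_of_truncate h hl
    rw [WittVector.map_coeff] at h0
    rw [show (Z₀.coeff l : PerfectClosure B p) = _ from h0, mul_comm, Groth.Agent.S18590.teichmuller_mul_coeff,
      WittVector.map_coeff, mul_pow, ← pow_mul, ← pow_add, Nat.add_sub_cancel' (by omega), hc', map_mul, map_pow, mul_comm]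
  have hcong : ∀ l, l < m → Y₀.coeff l - Φ₀.coeff l ∈ J := fun l hl => by
    obtain ⟨a, ha⟩ := hy ⟨l, hl⟩
    obtain ⟨b, hb⟩ := h1 c ⟨l, hl⟩
    rw [WittVector.coeff_truncate] at ha
    have hab : (PowerSeries.X : PS) ∣ a - b := by
      rcases lt_or_ge l s with hls | hls
      · rw [coeff_vShiftTeich, if_pos (show ((⟨l, hl⟩ : Fin m) : ℕ) < s from hls), zero_pow (pow_ne_zero _ hp.ne'), zero_mul] at hb
        rw [am_injective (S := S) (B := B) (hb.trans (map_zero _).symm), sub_zero]
        obtain ⟨a₀, ha₀⟩ := hlow l hl hls _ (show _ ∈ (am).range from ⟨a, ha⟩)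
        refine ⟨a₀, am_injective (S := S) (B := B) ?_⟩
        rw [map_mul, ← hu, ha₀, ha, ← mul_assoc, mul_comm (u : B), mul_assoc, ← Units.val_mul, ← zpow_one_add,
          add_sub_cancel]
      · obtain ⟨k, rfl⟩ : ∃ k, l = k + s := ⟨l - s, by omega⟩
        rw [coeff_vShiftTeich, if_neg (show ¬ ((⟨k + s, hl⟩ : Fin m) : ℕ) < s by simp), Nat.add_sub_cancel,
          hval _ _ hl] at hb
        have hZk := hZ k hl hl
        rw [WittVector.coeff_truncate] at hZk
        have ha' : a = Z k hl ^ p ^ (m - 1 - (k + s)) := am_injective (S := S) (B := B) <| by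
          rw [map_pow, ← hZk, ha]
          conv_rhs => rw [← hval _ k hl, mul_assoc (Y.coeff (k + s)), ← mul_pow, ← Units.val_mul, inv_mul_cancel,
            Units.val_one, one_pow, mul_one]
        have hb' : b = PowerSeries.C (c.coeff k) ^ p ^ (m - 1 - (k + s)) := am_injective (S := S) (B := B) <| by
          rw [hb, hCam, ← map_pow]
        rw [PowerSeries.X_dvd_iff, ha', hb', map_sub, map_pow, map_pow, PowerSeries.constantCoeff_C, WittVector.coeff_mk,
          dif_pos hl, sub_self]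
    obtain ⟨e, he⟩ := hab
    refine ⟨p ^ (m - 1 - l), Ideal.mem_span_singleton'.2 ⟨⟨ofA e, 0, e, by rw [pow_zero, pow_one]⟩, Subtype.ext ?_⟩⟩
    show ofA e * ofA PowerSeries.X = ((Y₀.coeff l : PerfectClosure B p) - (Φ₀.coeff l : PerfectClosure B p)) ^ p ^ (m - 1 - l)
    have hΦl : Φ.coeff l = TruncatedWittVector.coeff ⟨l, hl⟩ (WittFil.vShiftTeich p m s ((u ^ i : Bˣ) : B) c) := by
      rw [← hΦ, WittVector.coeff_truncate]
    rw [← map_mul, mul_comm, ← he, map_sub, sub_pow_char_pow, hpw Y Y₀ hY l hl, hpw Φ Φ₀ hΦ₀ l hl, hΦl,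
      show ofA a = PerfectClosure.of B p (am a) from rfl, show ofA b = PerfectClosure.of B p (am b) from rfl, ha, hb]
  have hdiff : (Y₀ - Φ₀).coeff (j : ℕ) ∈ J := by
    have h : WittVector.truncate m (WittVector.map (Ideal.Quotient.mk J) (Y₀ - Φ₀)) = 0 := by
      rw [map_sub, map_sub, sub_eq_zero]
      refine TruncatedWittVector.ext fun l => ?_
      rw [WittVector.coeff_truncate, WittVector.coeff_truncate, WittVector.map_coeff, WittVector.map_coeff]
      exact Ideal.Quotient.eq.2 (hcong l l.2)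
    have h2 := congrArg (TruncatedWittVector.coeff j) h
    rw [WittVector.coeff_truncate, TruncatedWittVector.coeff_zero, WittVector.map_coeff] at h2
    exact Ideal.Quotient.eq_zero_iff_mem.1 h2
  have hD : WittVector.truncate m (WittVector.map A'.subtype (Y₀ - Φ₀))
      = WittVector.truncate m (WittVector.map (PerfectClosure.of B p) (Y - Φ) * WittVector.teichmuller p c') := by
    rw [map_sub, map_sub, map_sub, sub_mul, map_sub, hY, hΦ₀]
  have he := hpw (Y - Φ) (Y₀ - Φ₀) hD j j.2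
  obtain ⟨N, hN⟩ := hdiff
  obtain ⟨w, hw⟩ := Ideal.mem_span_singleton'.1 hN
  obtain ⟨k, w₀, hw₀⟩ := w.2
  have hdd : TruncatedWittVector.coeff j (WittVector.truncate m Y - WittFil.vShiftTeich p m s ((u ^ i : Bˣ) : B) c)
      = (Y - Φ).coeff j := by rw [← hΦ, ← map_sub, WittVector.coeff_truncate]
  rw [hdd] at hd'
  set P := p ^ (m - 1 - (j : ℕ))
  have key : ofA (d ^ (N * p ^ k)) = ofA (w₀ ^ P * PowerSeries.X ^ (P * p ^ k)) := by
    have h0 : (w : PerfectClosure B p) * ofA PowerSeries.X = ((Y₀ - Φ₀).coeff (j : ℕ) : PerfectClosure B p) ^ N :=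
      (congrArg Subtype.val hw).trans (SubmonoidClass.coe_pow _ N)
    have h2 : ofA d = ((Y₀ - Φ₀).coeff (j : ℕ) : PerfectClosure B p) ^ P := by
      rw [he, show ofA d = PerfectClosure.of B p (am d) from rfl, hd']
    calc ofA (d ^ (N * p ^ k)) = (((Y₀ - Φ₀).coeff (j : ℕ) : PerfectClosure B p) ^ N) ^ (P * p ^ k) := by
          rw [map_pow, h2, ← pow_mul, ← pow_mul]; congr 1; ring
      _ = ((w : PerfectClosure B p) ^ p ^ k) ^ P * ofA PowerSeries.X ^ (P * p ^ k) := by
          rw [← h0, mul_pow, ← pow_mul, mul_comm (p ^ k)]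
      _ = ofA (w₀ ^ P * PowerSeries.X ^ (P * p ^ k)) := by
          rw [← hw₀, map_mul, map_pow, map_pow]
  have hdiv : (PowerSeries.X : PS) ∣ d ^ (N * p ^ k) := by
    rw [hofA key]
    exact (dvd_pow_self _ (mul_ne_zero (pow_ne_zero _ hp.ne') (pow_ne_zero _ hp.ne'))).mul_left _
  exact PowerSeries.X_prime.dvd_of_dvd_pow hdiv

end GrothLib.WittFiltr
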